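import Groth.Agent.L19.OmegaSh.DiffCompat
import Groth.Agent.L19.OmegaSh.Points
import Groth.Agent.L19.OmegaSh.Universal
import Groth.Agent.L20.ModPullback
import Groth.Agent.L02.Canon.Basic
import Groth.Agent.L21.Bundle.Lines
import Groth.Agent.L03.InterLen.Main

/-!
Differentials and base change: the canonical map of a cartesian square is an epimorphism, and an
isomorphism for a smooth relative curve.
-/

set_option autoImplicit false
set_option linter.style.haveILetI false
set_option backward.isDefEq.respectTransparency.types false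
set_option backward.isDefEq.respectTransparency false

universe u

open CategoryTheory CategoryTheory.Limits AlgebraicGeometry TopologicalSpace Opposite

noncomputable section

namespace Groth.L21.OmegaFam

open Groth.L18.Frame (rs ro rs_rs ro_ro rs_smul ro_self rs_self)
open _root_.OmegaSh (Der IsUniversal IsDiffCompat pullSect)
open Groth.L19.OmegaSh (der_map der_mul der_appLE)

variable {X S X' S' : Scheme.{u}} {f : X ⟶ S} {f' : X' ⟶ S'} {g' : X' ⟶ X} {g : S' ⟶ S}

/-- A derivation of `X'/S'` killing the functions pulled back from `X` is zero. -/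
theorem der_eq_zero_of_kill (sq : IsPullback g' f' f g) {C : X'.Modules} (D : Der f' C)
    (hk : ∀ (U : X.Opens) (b : Γ(X, U)), D.app (g' ⁻¹ᵁ U) (g'.app U b) = 0)
    (U : X'.Opens) (a : Γ(X', U)) : D.app U a = 0 := by
  let P : X'.affineOpens → Prop := fun O => ∀ c : Γ(X', O.1), D.app O.1 c = 0
  have hP : ∀ (x : X') (O : X'.Opens), x ∈ O → ∃ V, P V ∧ x ∈ V.1 ∧ V.1 ≤ O := by
    intro x O hxO
    obtain ⟨W, V, W', T, eV, eW, eU, eU', hW, hV, hW', hT, hxT, hpo⟩ :=
      Groth.L20.ModStalk.exists_affine_square sq x
    obtain ⟨t, htO, hxt⟩ := hT.exists_basicOpen_le ⟨x, hxO⟩ hxT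
    refine ⟨⟨X'.basicOpen t, hT.basicOpen t⟩, fun c => ?_, hxt, htO⟩
    have hTall : ∀ c : Γ(X', T), D.app T c = 0 := by
      let K : Subring Γ(X', T) :=
        { carrier := {c | D.app T c = 0}
          mul_mem' := fun {a b} ha hb => by
            show D.app T (a * b) = 0
            rw [der_mul, show D.app T a = 0 from ha, show D.app T b = 0 from hb, smul_zero, smul_zero, add_zero]
          one_mem' := by
            have h1 := der_mul D (U := T) (1 : Γ(X', T)) 1
            rw [one_mul, one_smul] at h1
            show D.app T 1 = 0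
            exact left_eq_add.1 h1
          add_mem' := fun {a b} ha hb => by
            show D.app T (a + b) = 0
            rw [map_add, show D.app T a = 0 from ha, show D.app T b = 0 from hb, add_zero]
          zero_mem' := map_zero _
          neg_mem' := fun {a} ha => by
            show D.app T (-a) = 0
            rw [map_neg, show D.app T a = 0 from ha, neg_zero] }
      have hle : Subring.closure (Set.range (g'.appLE V T eU) ∪ Set.range (f'.appLE W' T eU')) ≤ K := by
        refine Subring.closure_le.2 ?_
        rintro _ (⟨b, rfl⟩ | ⟨b, rfl⟩)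
        · show D.app T (ro eU (g'.app V b)) = 0
          rw [der_map, hk]
          exact map_zero _
        · exact der_appLE D eU' b
      rw [Groth.L19.OmegaSh.closure_range_eq_top hpo] at hle
      exact fun c => hle trivial
    haveI := hT.isLocalization_basicOpen t
    obtain ⟨⟨a₀, ⟨_, n, rfl⟩⟩, ha⟩ := IsLocalization.surj (Submonoid.powers t) c
    let le : X'.basicOpen t ≤ T := X'.basicOpen_le t
    have h1 : c * ro le (t ^ n) = ro le a₀ := ha
    have h2 : D.app (X'.basicOpen t) (ro le (t ^ n)) = 0 := by rw [der_map, hTall]; exact map_zero _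
    have h3 : D.app (X'.basicOpen t) (c * ro le (t ^ n)) = 0 := by rw [h1, der_map, hTall]; exact map_zero _
    rw [der_mul, h2, smul_zero, zero_add] at h3
    have hu : IsUnit (ro le (t ^ n)) := by
      show IsUnit (X'.presheaf.map (homOfLE le).op (t ^ n))
      rw [map_pow]
      exact (X'.toRingedSpace.isUnit_res_basicOpen t).pow n
    exact hu.smul_eq_zero.1 h3
  refine Groth.L19.OmegaSh.eq_of_basis (G := C) P hP _ _ fun V hV hVU => ?_
  rw [← der_map, hV]
  exact (map_zero _).symm

/-- The canonical map of a cartesian square is an epimorphism. -/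
theorem epi_diffCompat (sq : IsPullback g' f' f g) {Ω : X.Modules} {d : Der f Ω}
    {Ω' : X'.Modules} {d' : Der f' Ω'} (hd' : IsUniversal d')
    {c : (Scheme.Modules.pullback g').obj Ω ⟶ Ω'} (hc : IsDiffCompat g' d d' c) : Epi c := by
  refine Preadditive.epi_of_cancel_zero _ fun {C} q hq => ?_
  obtain ⟨α, -, hu⟩ := hd' C (d'.postcomp q.val)
  have hq' : q = α := hu q rfl
  have h0 : (0 : Ω' ⟶ C) = α := hu 0 (by
    refine PresheafOfModules.Derivation.ext ?_
    ext U a
    have h := der_eq_zero_of_kill sq (d'.postcomp q.val) (fun W b => by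
      show q.app (g' ⁻¹ᵁ W) (d'.app (g' ⁻¹ᵁ W) (g'.app W b)) = 0
      rw [← hc W b]
      show (c ≫ q).app (g' ⁻¹ᵁ W) (pullSect g' Ω W (d.app W b)) = 0
      rw [hq]
      rfl) U.unop a
    exact h.symm)
  rw [hq', h0]

/-- Differentials of a smooth relative curve commute with base change. -/
theorem nonempty_pullback_omega (sq : IsPullback g' f' f g) [QuasiSeparated f] [QuasiSeparated f']
    [SmoothOfRelativeDimension 1 f] :
    Nonempty ((Scheme.Modules.pullback g').obj (Omega.sheaf f) ≅ Omega.sheaf f') := by
  haveI : SmoothOfRelativeDimension 1 f' :=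
    (smoothOfRelativeDimension_isStableUnderBaseChange (n := 1)).of_isPullback sq inferInstance
  obtain ⟨c, hc, -⟩ := Groth.L19.OmegaSh.existsUnique_diffCompat g' g sq.w.symm
    (Groth.L19.OmegaSh.isUniversal_dOmega (f := f)) (_root_.OmegaSh.dOmega f')
  haveI := epi_diffCompat sq (Groth.L19.OmegaSh.isUniversal_dOmega (f := f')) hc
  haveI := Groth.L03.InterLen.isIso_of_epi_invertible c
    (Groth.L18.Ample.isInvertible_pullback g'
      (Groth.L21.Bundle.isInvertible_of_rank (Groth.L02.Canon.isFinLocFreeOfRank_omega (f := f) 1)))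
    (Groth.L21.Bundle.isInvertible_of_rank (Groth.L02.Canon.isFinLocFreeOfRank_omega (f := f') 1))
  exact ⟨asIso c⟩

end Groth.L21.OmegaFam
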