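import Groth.Agent.L21.OmegaFam.BaseChange
import Groth.Agent.L21.OpenSt.Smooth
import Groth.Agent.L21.SmoothCurveDim
import Groth.Agent.L21.Bundle.DualityApps
import Groth.Agent.L21.Duality.CliffordEquality
import Groth.Agent.L21.Disc.SimplyConn
import Groth.Agent.L23.FibreDimBC
import Groth.Agent.L12.CurveFam.R1
import Groth.Agent.L17.BC.Bc0Apply

/-!
Powers of the differentials on a family of smooth curves of genus at least two.
-/

set_option autoImplicit false
set_option linter.style.haveILetI false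
set_option linter.unusedSectionVars false
set_option backward.isDefEq.respectTransparency false
set_option backward.isDefEq.respectTransparency.types false

universe u

open CategoryTheory CategoryTheory.Limits AlgebraicGeometry TopologicalSpace

noncomputable section

namespace Groth.L21.OmegaFam

variable {C S : Scheme.{u}} (f : C ⟶ S) [IsProper f] [Smooth f] [GeometricallyConnected f]
  (hdim : ∀ s : S, topologicalKrullDim ↥(f.fiber s) = 1)

theorem fibre_facts (s : S) :
    IsProper (f.fiberToSpecResidueField s) ∧ Smooth (f.fiberToSpecResidueField s) ∧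
      GeometricallyIntegral (f.fiberToSpecResidueField s) ∧ IsIntegral (f.fiber s) := by
  let j : f.fiber s ⟶ Spec (CommRingCat.of (S.residueField s)) := f.fiberToSpecResidueField s
  haveI : IsProper j := inferInstanceAs (IsProper (pullback.snd f _))
  haveI : Smooth j := inferInstanceAs (Smooth (pullback.snd f _))
  haveI : GeometricallyConnected j := inferInstanceAs (GeometricallyConnected (pullback.snd f _))
  haveI : GeometricallyIntegral j := Groth.L21.Disc.geometricallyIntegral_of_smooth j
  exact ⟨‹_›, ‹_›, ‹_›, GeometricallyIntegral.isIntegral_of_subsingleton j⟩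

include hdim in
theorem smoothOfRelativeDimension_one : SmoothOfRelativeDimension 1 f := by
  refine (Groth.L21.OpenSt.smoothOfRelativeDimension_iff 1 f).2 ⟨inferInstance, fun x => ?_⟩
  obtain ⟨-, hsm, -, hint⟩ := fibre_facts f (f x)
  haveI := hsm
  haveI := hint
  haveI : SmoothOfRelativeDimension 1 (f.fiberToSpecResidueField (f x)) :=
    Groth.L21.SmoothCurve.smoothOfRelativeDimension_one (k := S.residueField (f x)) _ (hdim _)
  have h := ((Groth.L21.OpenSt.smoothOfRelativeDimension_iff 1 (f.fiberToSpecResidueField (f x))).1 inferInstance).2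
    (f.asFiber x)
  have h2 := Groth.L23.fibreDimAt_of_isPullback (IsPullback.of_hasPullback f (S.fromSpecResidueField (f x)))
    (f.asFiber x)
  rw [show pullback.fst f (S.fromSpecResidueField (f x)) (f.asFiber x) = x from f.fiberι_asFiber x] at h2
  exact h2.symm.trans h

include hdim in
theorem isInvertible_omega : PicF.IsInvertible (Omega.sheaf f) :=
  haveI := smoothOfRelativeDimension_one f hdim
  Groth.L21.Bundle.isInvertible_of_rank (Groth.L02.Canon.isFinLocFreeOfRank_omega (f := f) 1)

theorem nonempty_fiberMod_pow (s : S) (hdim : ∀ s : S, topologicalKrullDim ↥(f.fiber s) = 1) (n : ℕ) :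
    Nonempty (CohIII.fiberMod f (CohB1.tensorPow (Omega.sheaf f) n) s ≅
      CohB1.tensorPow (Omega.sheaf (f.fiberToSpecResidueField s)) n) := by
  haveI := smoothOfRelativeDimension_one f hdim
  obtain ⟨hp, hsm, -, -⟩ := fibre_facts f s
  haveI := hp
  obtain ⟨e⟩ := nonempty_pullback_omega (IsPullback.of_hasPullback f (S.fromSpecResidueField s))
  induction n with
  | zero => exact ⟨Groth.L29.LocFree.pullbackUnitIso (f.fiberι s)⟩
  | succ n ih =>
    obtain ⟨e'⟩ := ih
    exact ⟨(Groth.L29.DC.PullTensor.pullTensor (f.fiberι s) _ _).symm ≪≫ Groth.L00.Tensor.tensorIso e' e⟩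

variable {g : ℕ} (hg : 2 ≤ g)
  (hgen : ∀ s : S, letI : (f.fiber s).Over (Spec (S.residueField s)) := ⟨f.fiberToSpecResidueField s⟩
    Curv2.genus (S.residueField s) (f.fiber s) = g)
  {n : ℕ} (hn : 2 ≤ n)

include hdim hg hgen hn in
theorem fibre_pow (s : S) :
    Subsingleton (CohIII.fiberH f (CohB1.tensorPow (Omega.sheaf f) n) s 1) ∧
      CohIII.fiberRank f (CohB1.tensorPow (Omega.sheaf f) n) 0 s = (2 * n - 1) * (g - 1) := by
  obtain ⟨hp, hsm, hgi, hint⟩ := fibre_facts f s
  letI : (f.fiber s).Over (Spec (CommRingCat.of (S.residueField s))) := ⟨f.fiberToSpecResidueField s⟩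
  haveI : IsProper (f.fiber s ↘ Spec (CommRingCat.of (S.residueField s))) := hp
  haveI : Smooth (f.fiber s ↘ Spec (CommRingCat.of (S.residueField s))) := hsm
  haveI : GeometricallyIntegral (f.fiber s ↘ Spec (CommRingCat.of (S.residueField s))) := hgi
  haveI := hint
  haveI := Groth.L21.RR.isNoetherian_of_proper (X := f.fiber s) (S.residueField s)
  have hd := hdim s
  have h0 : Groth.L21.RR.h (S.residueField s) 0 (Coh.structureModule (f.fiber s)) = 1 :=
    Groth.L21.RR.h0_eq_one_of_geometricallyIntegral (X := f.fiber s) (S.residueField s) hd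
  have hgg : Curv2.genus (S.residueField s) (f.fiber s) = g := hgen s
  let k := S.residueField s
  let Ω := Omega.sheaf (f.fiber s ↘ Spec (CommRingCat.of k))
  let M := CohB1.tensorPow Ω n
  obtain ⟨e⟩ := nonempty_fiberMod_pow f s hdim n
  have hΩ := Groth.L21.Duality.isInvertible_omega (X := f.fiber s) (k := k) hd
  have hM : PicF.IsInvertible M := Groth.L18.Ample.isInvertible_tensorPow hΩ n
  have hM1 := Groth.L21.Bundle.locFree_one hM
  have hdeg : Groth.L21.Bundle.dg k M = n * (2 * (g : ℤ) - 2) := by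
    rw [← Groth.L21.Bundle.dg_eq k hM1, Groth.L21.Duality.deg_tensorPow (k := k) hd hΩ n,
      (Groth.L21.Duality.omega_invariants (k := k) hd).2.2 h0, hgg]
  have hlt : 2 * (g : ℤ) - 2 < n * (2 * (g : ℤ) - 2) := by
    have h1 : (2 : ℤ) ≤ n := by exact_mod_cast hn
    have h2 : (2 : ℤ) ≤ g := by exact_mod_cast hg
    nlinarith
  haveI h1 : Subsingleton (Coh.HH (f.fiber s) M 1) :=
    Groth.L21.Bundle.subsingleton_h1_of_sub_bound k hd h0 hM1 fun K i hi hK hr => by
      haveI := hi
      have hreg := Groth.L21.Smooth.regular_stalk (k := k) (f.fiber s ↘ Spec (CommRingCat.of k))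
      have hl := Groth.L21.Bundle.locFree_of_mono hreg hd.le i hK hM1
      rw [show Groth.L21.Bundle.rk K = 0 by omega] at hl
      rw [(Groth.L21.Bundle.zero_facts k hd.le (Groth.L21.Bundle.isZero_of_rank_zero hl)).2, hdeg, hgg]
      linarith
  refine ⟨@Groth.L21.Bundle.subsingleton_of_iso _ M _ e.symm 1 h1, ?_⟩
  have hχ := Groth.L21.Bundle.euler_bundle k hd h0 hM1
  rw [Groth.L21.RR.euler_eq k hd.le, Groth.L21.RR.h_eq_zero_of_subsingleton k h1, hdeg, hgg] at hχ
  have h2 : CohIII.fiberRank f (CohB1.tensorPow (Omega.sheaf f) n) 0 s = Groth.L21.RR.h k 0 M :=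
    Groth.L03.Euler.finrank_HH_of_iso (k := k) e 0
  rw [h2]
  zify [show 1 ≤ 2 * n by omega, show 1 ≤ g by omega]
  push_cast at hχ ⊢
  linarith

theorem flat_of_smooth : Flat f := inferInstance

include hdim in
theorem isFlatOver_pow : FlatMod.IsFlatOver f (CohB1.tensorPow (Omega.sheaf f) n) :=
  Groth.L29.DC.RelTor.isFlatOver_of_isFlat f (Groth.L21.RR.isFlat_of_isInvertible
    (Groth.L18.Ample.isInvertible_tensorPow (isInvertible_omega f hdim) n))

include hdim in
theorem isFP_pow : CohB1.IsFP (CohB1.tensorPow (Omega.sheaf f) n) :=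
  Groth.L18.LFP.isFP_of_isFinLocFree _ (Groth.L16.Existence.isFinLocFree_of_isInvertible
    (Groth.L18.Ample.isInvertible_tensorPow (isInvertible_omega f hdim) n))

include hdim hg hgen hn in
theorem push_pow [HasInjectiveResolutions C.Modules] :
    FlatMod.IsFinLocFreeOfRank ((2 * n - 1) * (g - 1)) ((Coh.push f).obj (CohB1.tensorPow (Omega.sheaf f) n)) ∧
      ∀ i : ℕ, 1 ≤ i → IsZero ((Coh.Rpush f i).obj (CohB1.tensorPow (Omega.sheaf f) n)) := by
  let F := CohB1.tensorPow (Omega.sheaf f) n
  haveI : Coh.IsQCoh F := Groth.L29.DC.PCQCoh.isQCoh_of_isFinLocFree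
    (Groth.L16.Existence.isFinLocFree_of_isInvertible (Groth.L18.Ample.isInvertible_tensorPow (isInvertible_omega f hdim) n))
  have hfp : CohB1.IsFP F := isFP_pow f hdim
  have hfl : FlatMod.IsFlatOver f F := isFlatOver_pow f hdim
  refine ⟨fun y => ?_, fun i hi => ?_⟩
  · obtain ⟨U, hy, ⟨e⟩⟩ := Groth.L17.BC.exists_free_of_vanishing f F hfp hfl y 0
      (fun q hq => absurd hq (Nat.succ_ne_zero q)) (fibre_pow f hdim hg hgen hn y).1
    rw [(fibre_pow f hdim hg hgen hn y).2] at e
    obtain ⟨θ⟩ := Groth.L17.BC.Classes.nonempty_Rpush_zero_iso f F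
    exact ⟨U, hy, ⟨((Scheme.Modules.restrictFunctor U.ι).mapIso θ).symm ≪≫ e⟩⟩
  · refine Groth.L21.Mod.isZero_of_restrict (fun _ : Unit => (⊤ : S.Opens).ι)
      (fun x => ⟨(), ⟨x, trivial⟩, rfl⟩) _ fun _ => Groth.L17.BC.isZero_restrict_of_forall _ ⊤ fun y _ =>
      Groth.L17.BC.exists_isZero_of_vanishing f F hfp hfl y i ?_
    rcases eq_or_lt_of_le hi with h | h
    · subst h; exact (fibre_pow f hdim hg hgen hn y).1
    · exact Groth.L12.CurveFam.subsingleton_fiberH_of_dim f y (d := 1) (hdim y).le F h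

include hdim hg hgen hn in
theorem isIso_bc0_pow {T C' : Scheme.{u}} (b : T ⟶ S) (f' : C' ⟶ T) (b' : C' ⟶ C) (hsq : IsPullback b' f' f b) :
    IsIso (CohBC.bc0 f b f' b' hsq.w (CohB1.tensorPow (Omega.sheaf f) n)) := by
  haveI := Groth.L17.PushQCoh.hasInjectiveResolutions C
  let F := CohB1.tensorPow (Omega.sheaf f) n
  haveI : Coh.IsQCoh F := Groth.L29.DC.PCQCoh.isQCoh_of_isFinLocFree
    (Groth.L16.Existence.isFinLocFree_of_isInvertible (Groth.L18.Ample.isInvertible_tensorPow (isInvertible_omega f hdim) n))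
  exact Groth.L17.BC.Classes.isIso_bc0 hsq (U := ⊤) (fun _ => trivial)
    (Groth.L17.BC.Classes.forall_split0_of_vanishing f F (isFP_pow f hdim) (isFlatOver_pow f hdim) ⊤
      fun y _ => (fibre_pow f hdim hg hgen hn y).1)

end Groth.L21.OmegaFam
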